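import Groth.Agent.S9386
import Groth.Agent.Synt29.OmegaRestrict
import Groth.Agent.Synt29.OmegaExists

/-!
# Differentials of a fibre product
-/

set_option autoImplicit false

universe u

open CategoryTheory CategoryTheory.Limits AlgebraicGeometry Opposite

namespace Groth.Agent.OmegaProd

open Groth.Agent.Synt29.OmegaStalk

theorem postcomp_ext {X Y : Scheme.{u}} {f : X ⟶ Y} {F : X.Modules} {D D' : OmegaSh.Der f F}
    (h : ∀ (W : X.Opens) (s : Γ(X, W)), D.app W s = D'.app W s) : D = D' := by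
  refine PresheafOfModules.Derivation.ext ?_
  funext W
  exact AddMonoidHom.ext fun s => h W.unop s

/-- Maps out of a sheaf of differentials are determined on differentials. -/
theorem hom_ext_univ {X Y : Scheme.{u}} {f : X ⟶ Y} {Ω : X.Modules} {d : OmegaSh.Der f Ω}
    (hd : OmegaSh.IsUniversal d) {F : X.Modules} {α β : Ω ⟶ F}
    (h : ∀ (W : X.Opens) (s : Γ(X, W)), α.app W (d.app W s) = β.app W (d.app W s)) : α = β :=
  (hd F (d.postcomp β.val)).unique (postcomp_ext h) rfl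

/-- Maps out of a pullback of a sheaf of differentials are determined on pulled back differentials. -/
theorem hom_ext_pullback {Z X Y : Scheme.{u}} (p : Z ⟶ X) {f : X ⟶ Y} {Ω : X.Modules} {d : OmegaSh.Der f Ω}
    (hd : OmegaSh.IsUniversal d) {F : Z.Modules} {α β : (Scheme.Modules.pullback p).obj Ω ⟶ F}
    (h : ∀ (W : X.Opens) (s : Γ(X, W)), α.app (p ⁻¹ᵁ W) (OmegaSh.pullSect p Ω W (d.app W s)) =
      β.app (p ⁻¹ᵁ W) (OmegaSh.pullSect p Ω W (d.app W s))) : α = β := by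
  apply ((Scheme.Modules.pullbackPushforwardAdjunction p).homEquiv _ _).injective
  refine hom_ext_univ hd fun W s => ?_
  rw [Adjunction.homEquiv_unit, Adjunction.homEquiv_unit]
  exact h W s

/-- The projection to the differentials relative to one factor. -/
theorem exists_proj {X Y S Z : Scheme.{u}} (a : X ⟶ S) (b : Y ⟶ S)
    (p : Z ⟶ X) (q : Z ⟶ Y) (h : Z ⟶ S) (wp : p ≫ a = h) (hZ : IsPullback p q a b)
    (ΩX : X.Modules) (dX : OmegaSh.Der a ΩX) (hX : OmegaSh.IsUniversal dX)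
    (ΩY : Y.Modules) (dY : OmegaSh.Der b ΩY) (hY : OmegaSh.IsUniversal dY)
    (ΩZ : Z.Modules) (dZ : OmegaSh.Der h ΩZ) (hZu : OmegaSh.IsUniversal dZ)
    (c₁ : (Scheme.Modules.pullback p).obj ΩX ⟶ ΩZ) (hc₁ : OmegaSh.IsDiffCompat p dX dZ c₁)
    (c₂ : (Scheme.Modules.pullback q).obj ΩY ⟶ ΩZ) (hc₂ : OmegaSh.IsDiffCompat q dY dZ c₂) :
    ∃ (r : ΩZ ⟶ (Scheme.Modules.pullback q).obj ΩY), c₂ ≫ r = 𝟙 _ ∧ c₁ ≫ r = 0 ∧
      ∀ (F : Z.Modules) (β : ΩZ ⟶ F), c₁ ≫ β = 0 → ∃ ε, β = r ≫ ε := by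
  obtain ⟨ΩZX, dZX, hZX⟩ := Synt29.OmegaExists.exists_isUniversal p
  obtain ⟨π, hπ, -⟩ := hZu ΩZX (derOfOpen h p a wp.symm dZX)
  have hπ' : ∀ (W : Z.Opens) (s : Γ(Z, W)), π.app W (dZ.app W s) = dZX.app W s :=
    fun W s => PresheafOfModules.Derivation.congr_d hπ s
  have hb : OmegaSh.IsDiffCompat q dY dZX (c₂ ≫ π) := fun U s => by
    show π.app (q ⁻¹ᵁ U) (c₂.app (q ⁻¹ᵁ U) (OmegaSh.pullSect q ΩY U (dY.app U s))) = _
    rw [hc₂ U s, hπ']
  haveI : IsIso (c₂ ≫ π) := S9386.result b a q p hZ.flip ΩY dY hY ΩZX dZX hZX _ hb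
  have hc : c₁ ≫ π = 0 := by
    refine hom_ext_pullback p hX fun W s => ?_
    show π.app (p ⁻¹ᵁ W) (c₁.app (p ⁻¹ᵁ W) (OmegaSh.pullSect p ΩX W (dX.app W s))) = _
    rw [hc₁ W s, hπ', app_base]
    rfl
  refine ⟨π ≫ inv (c₂ ≫ π), by rw [← Category.assoc, IsIso.hom_inv_id],
    by rw [← Category.assoc, hc, zero_comp], fun F β hβ => ?_⟩
  have hkill : ∀ (W : X.Opens) (s : Γ(X, W)), β.app (p ⁻¹ᵁ W) (dZ.app (p ⁻¹ᵁ W) (p.app W s)) = 0 := by
    intro W s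
    rw [← hc₁ W s]
    show (c₁ ≫ β).app (p ⁻¹ᵁ W) _ = _
    rw [hβ]
    rfl
  let D : OmegaSh.Der p F :=
    { d := fun {W} => (dZ.postcomp β.val).d (X := W)
      d_mul := fun {W} a b => (dZ.postcomp β.val).d_mul a b
      d_map := fun {W W'} i a => (dZ.postcomp β.val).d_map i a
      d_app := fun {W} c => hkill W.unop c }
  obtain ⟨ε, hε, -⟩ := hZX F D
  refine ⟨(c₂ ≫ π) ≫ ε, ?_⟩
  rw [Category.assoc, IsIso.inv_hom_id_assoc]
  refine hom_ext_univ hZu fun W s => ?_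
  show β.app W (dZ.app W s) = ε.app W (π.app W (dZ.app W s))
  rw [hπ']
  exact (PresheafOfModules.Derivation.congr_d hε s).symm

/-- The differentials of a fibre product are the sum of those of the factors. -/
theorem isIso_desc {X Y S Z : Scheme.{u}} (a : X ⟶ S) (b : Y ⟶ S)
    (p : Z ⟶ X) (q : Z ⟶ Y) (h : Z ⟶ S) (wp : p ≫ a = h) (wq : q ≫ b = h) (hZ : IsPullback p q a b)
    (ΩX : X.Modules) (dX : OmegaSh.Der a ΩX) (hX : OmegaSh.IsUniversal dX)
    (ΩY : Y.Modules) (dY : OmegaSh.Der b ΩY) (hY : OmegaSh.IsUniversal dY)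
    (ΩZ : Z.Modules) (dZ : OmegaSh.Der h ΩZ) (hZu : OmegaSh.IsUniversal dZ)
    (c₁ : (Scheme.Modules.pullback p).obj ΩX ⟶ ΩZ) (hc₁ : OmegaSh.IsDiffCompat p dX dZ c₁)
    (c₂ : (Scheme.Modules.pullback q).obj ΩY ⟶ ΩZ) (hc₂ : OmegaSh.IsDiffCompat q dY dZ c₂) :
    IsIso (coprod.desc c₁ c₂) := by
  obtain ⟨rY, h2, h12, hfac⟩ := exists_proj a b p q h wp hZ ΩX dX hX ΩY dY hY ΩZ dZ hZu c₁ hc₁ c₂ hc₂
  obtain ⟨rX, h1, h21, -⟩ := exists_proj b a q p h wq hZ.flip ΩY dY hY ΩX dX hX ΩZ dZ hZu c₂ hc₂ c₁ hc₁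
  refine ⟨rX ≫ coprod.inl + rY ≫ coprod.inr, ?_, ?_⟩
  · apply coprod.hom_ext <;>
      simp only [Preadditive.comp_add, coprod.inl_desc_assoc, coprod.inr_desc_assoc, reassoc_of% h1, reassoc_of% h2, reassoc_of% h12, reassoc_of% h21, zero_comp, add_zero, zero_add, Category.comp_id]
  · rw [Preadditive.add_comp, Category.assoc, Category.assoc, coprod.inl_desc, coprod.inr_desc]
    have hβ : c₁ ≫ (rX ≫ c₁ + rY ≫ c₂ - 𝟙 ΩZ) = 0 := by
      simp [Preadditive.comp_add, Preadditive.comp_sub, reassoc_of% h1, reassoc_of% h12]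
    obtain ⟨ε, hε⟩ := hfac _ _ hβ
    have hε0 : ε = 0 := by
      have e := congrArg (fun t => c₂ ≫ t) hε
      simpa [Preadditive.comp_add, Preadditive.comp_sub, reassoc_of% h2, reassoc_of% h21] using e.symm
    rw [hε0, comp_zero, sub_eq_zero] at hε
    exact hε

end Groth.Agent.OmegaProd
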